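import Cfsg.Agent.H671.H5Facts
import Cfsg.Agent.Prune
set_option linter.all false
prune_inst 0x7f00000000000000000000000000000000000000000000000000000000000000000000000000000000000000000000000000000000000000000000000000000000000000000000000000000000000000003fffffffffffffffffffffffffffbeffbdffffffff
open scoped Cfsg.Agent.FastGrp

/-!
# Characters which extend to their stabiliser in `Aut S` (helper576, S4832)

* `stab θ` : the stabiliser of `θ` in `Aut S`;
* `ExtTo θ A` : `θ` extends to the subgroup `A` of `Aut S` (along `s ↦ conj s`);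
* `HasExt p S` : some irreducible character of `S` of degree divisible by `p` extends to its stabiliser;
* `SylCyc S` : the Sylow subgroups of `Out S` are cyclic.
-/

set_option autoImplicit false

open scoped ComplexConjugate
open Cfsg

namespace Cfsg.Agent.H576.Ext

universe u v

variable {S : Type u} [Group S]

/-- the stabiliser of `θ` in `Aut S` -/
def stab (θ : S → ℂ) : Subgroup (MulAut S) where
  carrier := {α | ∀ s, θ (α s) = θ s}
  one_mem' := fun _ => rfl
  mul_mem' := by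
    intro α β hα hβ s
    rw [MulAut.mul_apply, hα, hβ]
  inv_mem' := by
    intro α hα s
    have := hα (α⁻¹ s)
    rw [MulAut.apply_inv_self] at this
    exact this.symm

theorem mem_stab {θ : S → ℂ} {α : MulAut S} : α ∈ stab θ ↔ ∀ s, θ (α s) = θ s := Iff.rfl

/-- `θ` extends to the subgroup `A` of `Aut S` -/
def ExtTo (θ : S → ℂ) (A : Subgroup (MulAut S)) : Prop :=
  ∃ ψ : A → ℂ, IsIrrCharacter A ψ ∧ ∀ (s : S) (hs : MulAut.conj s ∈ A), ψ ⟨MulAut.conj s, hs⟩ = θ s

/-- some irreducible character of `S` of degree divisible by `p` extends to its stabiliser in `Aut S` -/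
def HasExt (p : ℕ) (S : Type u) [Group S] : Prop :=
  ∃ θ : S → ℂ, IsIrrCharacter S θ ∧ p ∣ charDegree θ ∧ ExtTo θ (stab θ)

/-- the image in `Out S` of every `ℓ`-subgroup of `Aut S` contained in `A` is cyclic -/
def SylCycIn (A : Subgroup (MulAut S)) : Prop :=
  ∀ ℓ : ℕ, ℓ.Prime → ∀ P : Subgroup (MulAut S), P ≤ A → IsPGroup ℓ P →
    ∃ γ ∈ P, ∀ α ∈ P, ∃ (k : ℤ) (s : S), α = MulAut.conj s * γ ^ k

/-- the Sylow subgroups of `Out S` are cyclic -/
def SylCyc (S : Type u) [Group S] : Prop := SylCycIn (⊤ : Subgroup (MulAut S))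

theorem SylCycIn.mono {A B : Subgroup (MulAut S)} (h : A ≤ B) (hB : SylCycIn B) : SylCycIn A :=
  fun ℓ hℓ P hP hP' => hB ℓ hℓ P (hP.trans h) hP'

/-- the conclusion of S4832 -/
theorem HasExt.result {p : ℕ} (h : HasExt p S) :
    ∃ θ : Cfsg.IrrCharacter S, p ∣ Cfsg.charDegree (θ : S → ℂ) ∧
      ∀ T : Subgroup (MulAut S), (∀ α : MulAut S, α ∈ T ↔ ∀ s : S, (θ : S → ℂ) (α s) = (θ : S → ℂ) s) →
        ∃ ψ : Cfsg.IrrCharacter T, ∀ (s : S) (hs : MulAut.conj s ∈ T),
          (ψ : T → ℂ) ⟨MulAut.conj s, hs⟩ = (θ : S → ℂ) s := by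
  obtain ⟨θ, hθ, hd, ψ, hψ, he⟩ := h
  refine ⟨⟨θ, hθ⟩, hd, fun T hT => ?_⟩
  have e : T = stab θ := by
    ext α
    rw [hT, mem_stab]
  subst e
  exact ⟨⟨ψ, hψ⟩, he⟩

end Cfsg.Agent.H576.Ext
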